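import Cfsg.Agent.H615.GU.Types
import Mathlib.Algebra.Polynomial.Reverse

/-!
# HUB S4537, A5: globalization of the local identities (helper315)

`I1`, `I2`, `Np_eq_zero`, `ev_ap_ne_zero` are hypotheses (tasks A1 and A3).
* `Ng_eq_zero`, `Ag_ne_zero`, `finite_tofDeg`, `GI1`, `Uop_comm`.
-/

set_option autoImplicit false

open Polynomial

namespace Cfsg.Agent.H315.GU

open Cfsg.Agent.H615.GU

/-! ### Local facts -/

theorem ev_one (t : ℂ) : ev t 1 = 1 := map_one (Polynomial.aeval t)

theorem ev_zero (t : ℂ) : ev t 0 = 0 := map_zero (Polynomial.aeval t)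

theorem ev_mul (t : ℂ) (f g : ℤ[X]) : ev t (f * g) = ev t f * ev t g := map_mul (Polynomial.aeval t) f g

theorem ev_sum (t : ℂ) {ι : Type*} (s : Finset ι) (f : ι → ℤ[X]) :
    ev t (∑ i ∈ s, f i) = ∑ i ∈ s, ev t (f i) := map_sum (Polynomial.aeval t) f s

theorem ev_X_pow (t : ℂ) (n : ℕ) : ev t (X ^ n) = t ^ n := by
  change Polynomial.aeval t (X ^ n) = t ^ n
  rw [map_pow, aeval_X]

theorem Np_zero_right (l : Col) : Np l 0 = 1 := by
  unfold Np
  have : ((0 : Col).1 : ℕ →₀ ℕ).support = ∅ := Finsupp.support_zero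
  rw [this, Finset.prod_empty]

theorem ap_zero : ap 0 = 1 := by
  unfold ap
  have : ((0 : Col).1 : ℕ →₀ ℕ).support = ∅ := Finsupp.support_zero
  rw [this, Finset.prod_empty]

theorem zero_le_col (l : Col) : (0 : Col) ≤ l := fun i => Nat.zero_le _

theorem eq_zero_of_le_zero {l : Col} (h : l ≤ 0) : l = 0 := by
  ext i
  exact Nat.le_zero.1 (h i)

theorem one_le_size {l : Col} (h : l ≠ 0) : 1 ≤ l.size := by
  by_contra hcon
  apply h
  ext i
  have h1 := l.apply_le_size i
  change l i = 0
  omega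

variable {I : Type*}

theorem support_subset {lam k : Ty I} (h : ∀ i, k i ≤ lam i) : k.support ⊆ lam.support := by
  intro i hi
  rw [Finsupp.mem_support_iff] at hi ⊢
  intro h0
  apply hi
  have := h i
  rw [h0] at this
  exact eq_zero_of_le_zero this

/-! ### Products over the index set -/

/-- **Distributivity over the types contained in `lam`.** -/
theorem sum_tbelow {R : Type*} [CommSemiring R] (lam : Ty I) (G : I → Col → R) :
    ∑ k ∈ tbelow lam, ∏ i ∈ lam.support, G i (k i) =
      ∏ i ∈ lam.support, ∑ c ∈ Col.below (lam i), G i c := by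
  classical
  rw [Finset.prod_sum]
  symm
  refine Finset.sum_bij (fun p hp => Finsupp.onFinset lam.support
    (fun i => if h : i ∈ lam.support then p i h else 0) (fun i hi => by
      by_contra hcon
      exact hi (dif_neg hcon))) ?_ ?_ ?_ ?_
  · intro p hp
    rw [mem_tbelow]
    intro i
    rw [Finsupp.onFinset_apply]
    by_cases h : i ∈ lam.support
    · rw [dif_pos h]
      exact Col.mem_below.1 (Finset.mem_pi.1 hp i h)
    · rw [dif_neg h]
      exact zero_le_col _
  · intro p hp p' hp' h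
    funext i hi
    have h1 := DFunLike.congr_fun h i
    rw [Finsupp.onFinset_apply, Finsupp.onFinset_apply, dif_pos hi, dif_pos hi] at h1
    exact h1
  · intro k hk
    rw [mem_tbelow] at hk
    refine ⟨fun i _ => k i, ?_, ?_⟩
    · rw [Finset.mem_pi]
      intro i _
      exact Col.mem_below.2 (hk i)
    · ext1 i
      rw [Finsupp.onFinset_apply]
      by_cases h : i ∈ lam.support
      · rw [dif_pos h]
      · rw [dif_neg h]
        by_contra hne
        exact h (support_subset hk (Finsupp.mem_support_iff.2 (Ne.symm hne)))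
  · intro p hp
    rw [← Finset.prod_attach lam.support]
    refine Finset.prod_congr rfl fun i _ => ?_
    rw [Finsupp.onFinset_apply, dif_pos i.2]

variable (d : I → ℕ) (Q : ℤ)

theorem Ng_eq_prod {lam k : Ty I} {S : Finset I} (h : k.support ⊆ S) :
    Ng d Q lam k = ∏ i ∈ S, ev ((Q : ℂ) ^ d i) (Np (lam i) (k i)) := by
  unfold Ng
  refine Finset.prod_subset h fun i _ hi => ?_
  rw [Finsupp.notMem_support_iff] at hi
  rw [hi, Np_zero_right, ev_one]

theorem Ag_eq_prod {k : Ty I} {S : Finset I} (h : k.support ⊆ S) :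
    Ag d Q k = ∏ i ∈ S, ev ((Q : ℂ) ^ d i) (ap (k i)) := by
  unfold Ag
  refine Finset.prod_subset h fun i _ hi => ?_
  rw [Finsupp.notMem_support_iff] at hi
  rw [hi, ap_zero, ev_one]

theorem tdeg_eq_sum {k : Ty I} {S : Finset I} (h : k.support ⊆ S) :
    tdeg d k = ∑ i ∈ S, d i * (k i).size := by
  unfold tdeg
  refine Finsupp.sum_of_support_subset _ h _ fun i _ => ?_
  rw [Col.size_zero, mul_zero]

/-! ### The statements -/

theorem Ng_eq_zero (hN : ∀ l k : Col, ¬ k ≤ l → Np l k = 0) {lam k : Ty I} (h : ¬ ∀ i, k i ≤ lam i) :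
    Ng d Q lam k = 0 := by
  push Not at h
  obtain ⟨i, hi⟩ := h
  have hs : i ∈ k.support := by
    rw [Finsupp.mem_support_iff]
    intro h0
    apply hi
    rw [h0]
    exact zero_le_col _
  unfold Ng
  refine Finset.prod_eq_zero hs ?_
  rw [hN _ _ hi, ev_zero]

theorem Ag_ne_zero (hap : ∀ t : ℂ, t ≠ 0 → (∀ i : ℕ, 0 < i → t ^ i ≠ 1) → ∀ l : Col, ev t (ap l) ≠ 0)
    (hd : ∀ i, 0 < d i) (hQ : 2 ≤ |Q|) (lam : Ty I) : Ag d Q lam ≠ 0 := by
  unfold Ag
  rw [Finset.prod_ne_zero_iff]
  intro i _
  have hQ0 : Q ≠ 0 := by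
    rintro rfl
    simp at hQ
  refine hap _ (pow_ne_zero _ (by exact_mod_cast hQ0)) (fun j hj h1 => ?_) _
  rw [← pow_mul] at h1
  have h2 : Q ^ (d i * j) = 1 := by exact_mod_cast h1
  have h3 : |Q| ^ (d i * j) = 1 := by rw [← abs_pow, h2, abs_one]
  have h4 : 1 < |Q| ^ (d i * j) := one_lt_pow₀ (by omega) (Nat.mul_pos (hd i) hj).ne'
  omega

theorem finite_tofDeg (hd : ∀ i, 0 < d i) (hfin : ∀ n, {i | d i ≤ n}.Finite) (n : ℕ) :
    {lam : Ty I | tdeg d lam = n}.Finite := by
  classical
  have hle : ∀ lam : Ty I, tdeg d lam = n → ∀ i, d i * (lam i).size ≤ n := by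
    intro lam hlam i
    rw [← hlam]
    by_cases hi : i ∈ lam.support
    · exact Finset.single_le_sum (f := fun i => d i * (lam i).size) (fun _ _ => Nat.zero_le _) hi
    · rw [Finsupp.notMem_support_iff] at hi
      rw [hi, Col.size_zero, mul_zero]
      exact Nat.zero_le _
  have hsup : ∀ lam : Ty I, tdeg d lam = n → ∀ i, lam i ≠ 0 → d i ≤ n := by
    intro lam hlam i hi
    refine le_trans ?_ (hle lam hlam i)
    exact Nat.le_mul_of_pos_right _ (one_le_size hi)
  have hsize : ∀ lam : Ty I, tdeg d lam = n → ∀ i, (lam i).size ≤ n := by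
    intro lam hlam i
    refine le_trans ?_ (hle lam hlam i)
    exact Nat.le_mul_of_pos_left _ (hd i)
  let J : Set I := {i | d i ≤ n}
  have hJ : Finite J := (hfin n).to_subtype
  let f : Ty I → (J → Col) := fun k i => k i
  refine Set.Finite.of_finite_image (f := f) ?_ ?_
  · refine Set.Finite.subset (Set.Finite.pi' (t := fun _ : J => {c : Col | c.size ≤ n})
      fun _ => Col.finite_of_bound n) ?_
    rintro _ ⟨k, hk, rfl⟩ i
    exact hsize k hk i
  · intro k hk k' hk' h
    ext1 i
    by_cases hi : d i ≤ n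
    · exact congrFun h ⟨i, hi⟩
    · have e1 : k i = 0 := by
        by_contra hne
        exact hi (hsup k hk i hne)
      have e2 : k' i = 0 := by
        by_contra hne
        exact hi (hsup k' hk' i hne)
      rw [e1, e2]

/-- (GI1) -/
theorem GI1 (hI1 : ∀ l m : Col, ∑ k ∈ Col.below l, Np l k * Np m k * ap k = X ^ l.ip m) (lam mu : Ty I) :
    ∑ k ∈ tbelow lam, Ng d Q lam k * Ng d Q mu k * Ag d Q k = (Q : ℂ) ^ tip d lam mu := by
  have h1 : ∀ k ∈ tbelow lam, Ng d Q lam k * Ng d Q mu k * Ag d Q k =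
      ∏ i ∈ lam.support, ev ((Q : ℂ) ^ d i) (Np (lam i) (k i) * Np (mu i) (k i) * ap (k i)) := by
    intro k hk
    rw [mem_tbelow] at hk
    have hs := support_subset hk
    rw [Ng_eq_prod d Q hs, Ng_eq_prod d Q hs, Ag_eq_prod d Q hs, ← Finset.prod_mul_distrib,
      ← Finset.prod_mul_distrib]
    refine Finset.prod_congr rfl fun i _ => ?_
    rw [ev_mul, ev_mul]
  rw [Finset.sum_congr rfl h1,
    sum_tbelow lam (fun i c => ev ((Q : ℂ) ^ d i) (Np (lam i) c * Np (mu i) c * ap c))]
  have h2 : ∀ i ∈ lam.support, ∑ c ∈ Col.below (lam i),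
      ev ((Q : ℂ) ^ d i) (Np (lam i) c * Np (mu i) c * ap c) = (Q : ℂ) ^ (d i * (lam i).ip (mu i)) := by
    intro i _
    rw [← ev_sum, hI1, ev_X_pow, ← pow_mul]
  rw [Finset.prod_congr rfl h2, Finset.prod_pow_eq_pow_sum]
  rfl

/-! ### Palindromic polynomials -/

/-- palindromic with centre `N / 2` -/
def Pal (N : ℕ) (f : ℂ[X]) : Prop := f.natDegree ≤ N ∧ reflect N f = f

theorem Pal.mul {M N : ℕ} {f g : ℂ[X]} (hf : Pal M f) (hg : Pal N g) : Pal (M + N) (f * g) := by
  refine ⟨natDegree_mul_le.trans (add_le_add hf.1 hg.1), ?_⟩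
  rw [reflect_mul f g hf.1 hg.1, hf.2, hg.2]

theorem Pal.one : Pal 0 (1 : ℂ[X]) := by
  refine ⟨by rw [natDegree_one], ?_⟩
  have : (1 : ℂ[X]) = C 1 * X ^ 0 := by simp
  conv_lhs => rw [this]
  rw [reflect_C_mul_X_pow]
  simp

theorem Pal.prod {S : Finset I} {N : I → ℕ} {f : I → ℂ[X]} (h : ∀ i ∈ S, Pal (N i) (f i)) :
    Pal (∑ i ∈ S, N i) (∏ i ∈ S, f i) := by
  classical
  induction S using Finset.induction_on with
  | empty => simpa using Pal.one
  | insert i S hi ih =>
    rw [Finset.sum_insert hi, Finset.prod_insert hi]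
    exact (h i (Finset.mem_insert_self _ _)).mul (ih fun j hj => h j (Finset.mem_insert_of_mem hj))

theorem Pal.coeff {N : ℕ} {f : ℂ[X]} (h : Pal N f) {i j : ℕ} (hij : i + j = N) : f.coeff i = f.coeff j := by
  have h1 : (reflect N f).coeff i = f.coeff j := by
    rw [coeff_reflect, revAt_le (by omega)]
    congr 1
    omega
  rw [h.2] at h1
  exact h1

/-- the local polynomial -/
noncomputable def lp (t : ℂ) (e : ℕ) (l n : Col) : ℂ[X] :=
  ∑ c ∈ Col.below l, C (ev t (Np l c) * ev t (Np c n)) * X ^ (e * c.size)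

theorem coeff_lp (t : ℂ) (e : ℕ) (l n : Col) (j : ℕ) : (lp t e l n).coeff j =
    ∑ c ∈ (Col.below l).filter (fun c => e * c.size = j), ev t (Np l c) * ev t (Np c n) := by
  classical
  unfold lp
  rw [finsetSum_coeff, Finset.sum_filter]
  refine Finset.sum_congr rfl fun c _ => ?_
  rw [coeff_C_mul_X_pow]
  by_cases h : e * c.size = j
  · rw [if_pos h.symm, if_pos h]
  · rw [if_neg (Ne.symm h), if_neg h]

theorem local_sum (hN : ∀ l k : Col, ¬ k ≤ l → Np l k = 0)
    (hI2 : ∀ (l n : Col) (a b : ℕ), n.size + a + b = l.size →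
      ∑ k ∈ (Col.below l).filter (fun k => k.size = n.size + a), Np l k * Np k n =
        ∑ k ∈ (Col.below l).filter (fun k => k.size = n.size + b), Np l k * Np k n)
    (t : ℂ) (l n : Col) {s s' : ℕ} (hs : s + s' = l.size + n.size) (hle : s ≤ s') :
    ∑ c ∈ (Col.below l).filter (fun c => c.size = s), ev t (Np l c) * ev t (Np c n) =
      ∑ c ∈ (Col.below l).filter (fun c => c.size = s'), ev t (Np l c) * ev t (Np c n) := by
  rcases Nat.lt_or_ge s n.size with h | h
  · -- both sides are zero
    rw [Finset.sum_eq_zero, Finset.sum_eq_zero]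
    · intro c hc
      rw [Finset.mem_filter, Col.mem_below] at hc
      have := Col.size_mono hc.1
      omega
    · intro c hc
      rw [Finset.mem_filter, Col.mem_below] at hc
      rw [hN c n, ev_zero, mul_zero]
      intro hle'
      have := Col.size_mono hle'
      omega
  · rcases Nat.lt_or_ge l.size s with h' | h'
    · rw [Finset.sum_eq_zero, Finset.sum_eq_zero]
      · intro c hc
        rw [Finset.mem_filter, Col.mem_below] at hc
        have := Col.size_mono hc.1
        omega
      · intro c hc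
        rw [Finset.mem_filter, Col.mem_below] at hc
        have := Col.size_mono hc.1
        omega
    · have h1 := hI2 l n (s - n.size) (l.size - s) (by omega)
      have e1 : n.size + (s - n.size) = s := by omega
      have e2 : n.size + (l.size - s) = s' := by omega
      rw [e1, e2] at h1
      have h2 := congrArg (ev t) h1
      rw [ev_sum, ev_sum] at h2
      simpa only [ev_mul] using h2

theorem pal_lp (hN : ∀ l k : Col, ¬ k ≤ l → Np l k = 0)
    (hI2 : ∀ (l n : Col) (a b : ℕ), n.size + a + b = l.size →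
      ∑ k ∈ (Col.below l).filter (fun k => k.size = n.size + a), Np l k * Np k n =
        ∑ k ∈ (Col.below l).filter (fun k => k.size = n.size + b), Np l k * Np k n)
    (t : ℂ) {e : ℕ} (he : 0 < e) (l n : Col) : Pal (e * (l.size + n.size)) (lp t e l n) := by
  classical
  constructor
  · unfold lp
    refine natDegree_sum_le_of_forall_le _ _ fun c hc => ?_
    refine (natDegree_C_mul_X_pow_le _ _).trans ?_
    rw [Col.mem_below] at hc
    have := Col.size_mono hc
    exact Nat.mul_le_mul_left _ (by omega)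
  · ext j
    rw [coeff_reflect]
    by_cases hj : j ≤ e * (l.size + n.size)
    · rw [revAt_le hj, coeff_lp, coeff_lp]
      by_cases hd : e ∣ j
      · obtain ⟨s, rfl⟩ := hd
        have hs : s ≤ l.size + n.size := Nat.le_of_mul_le_mul_left hj he
        have h1 : e * (l.size + n.size) - e * s = e * (l.size + n.size - s) := by rw [Nat.mul_sub]
        rw [h1]
        have h2 : ∀ (r : ℕ), (Col.below l).filter (fun c => e * c.size = e * r) =
            (Col.below l).filter (fun c => c.size = r) := by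
          intro r
          refine Finset.filter_congr fun c _ => ?_
          exact ⟨fun h => Nat.eq_of_mul_eq_mul_left he h, fun h => by rw [h]⟩
        rw [h2, h2]
        rcases Nat.le_total s (l.size + n.size - s) with h | h
        · exact (local_sum hN hI2 t l n (by omega) h).symm
        · exact local_sum hN hI2 t l n (by omega) h
      · rw [Finset.sum_eq_zero, Finset.sum_eq_zero]
        · intro c hc
          rw [Finset.mem_filter] at hc
          exact absurd ⟨_, hc.2.symm⟩ hd
        · intro c hc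
          rw [Finset.mem_filter] at hc
          exfalso
          apply hd
          have h3 : j = e * (l.size + n.size) - e * c.size := by omega
          rw [h3, ← Nat.mul_sub]
          exact dvd_mul_right _ _
    · rw [revAt_eq_self_of_lt (not_le.1 hj)]

/-- the global polynomial -/
noncomputable def gp (lam m : Ty I) : ℂ[X] :=
  ∑ k ∈ tbelow lam, C (Ng d Q lam k * Ng d Q k m) * X ^ tdeg d k

theorem gp_eq_prod {lam m : Ty I} (hm : ∀ i, m i ≤ lam i) :
    gp d Q lam m = ∏ i ∈ lam.support, lp ((Q : ℂ) ^ d i) (d i) (lam i) (m i) := by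
  unfold gp lp
  rw [← sum_tbelow lam (fun i c => C (ev ((Q : ℂ) ^ d i) (Np (lam i) c) * ev ((Q : ℂ) ^ d i) (Np c (m i))) *
    X ^ (d i * c.size))]
  refine Finset.sum_congr rfl fun k hk => ?_
  rw [mem_tbelow] at hk
  have hs := support_subset hk
  have hms := support_subset hm
  rw [Ng_eq_prod d Q hs, Ng_eq_prod d Q hms, tdeg_eq_sum d hs, ← Finset.prod_mul_distrib, map_prod,
    ← Finset.prod_pow_eq_pow_sum, ← Finset.prod_mul_distrib]

theorem coeff_gp (lam m : Ty I) (j : ℕ) : (gp d Q lam m).coeff j =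
    ∑ k ∈ tbelow lam, if tdeg d k = j then Ng d Q lam k * Ng d Q k m else 0 := by
  classical
  unfold gp
  rw [finsetSum_coeff]
  refine Finset.sum_congr rfl fun k _ => ?_
  rw [coeff_C_mul_X_pow]
  by_cases h : tdeg d k = j
  · rw [if_pos h.symm, if_pos h]
  · rw [if_neg (Ne.symm h), if_neg h]

/-- the global form of `I2` -/
theorem GI2 (hN : ∀ l k : Col, ¬ k ≤ l → Np l k = 0)
    (hI2 : ∀ (l n : Col) (a b : ℕ), n.size + a + b = l.size →
      ∑ k ∈ (Col.below l).filter (fun k => k.size = n.size + a), Np l k * Np k n =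
        ∑ k ∈ (Col.below l).filter (fun k => k.size = n.size + b), Np l k * Np k n)
    (hd : ∀ i, 0 < d i) {lam m : Ty I} (hm : ∀ i, m i ≤ lam i) {a b : ℕ}
    (hab : tdeg d m + a + b = tdeg d lam) :
    (gp d Q lam m).coeff (tdeg d m + a) = (gp d Q lam m).coeff (tdeg d m + b) := by
  have h1 : Pal (∑ i ∈ lam.support, d i * ((lam i).size + (m i).size)) (gp d Q lam m) := by
    rw [gp_eq_prod d Q hm]
    exact Pal.prod fun i _ => pal_lp hN hI2 _ (hd i) _ _
  refine h1.coeff ?_
  have h2 : ∑ i ∈ lam.support, d i * ((lam i).size + (m i).size) = tdeg d lam + tdeg d m := by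
    rw [tdeg_eq_sum d (Finset.Subset.refl lam.support), tdeg_eq_sum d (support_subset hm),
      ← Finset.sum_add_distrib]
    refine Finset.sum_congr rfl fun i _ => ?_
    rw [Nat.mul_add]
  rw [h2]
  omega

theorem Uop_Uop (hN : ∀ l k : Col, ¬ k ≤ l → Np l k = 0) (a b : ℕ) (f : Ty I → ℂ) (lam : Ty I) :
    Uop d Q a (Uop d Q b f) lam =
      ∑ m ∈ tbelow lam, if tdeg d m + b + a = tdeg d lam then (gp d Q lam m).coeff (tdeg d m + b) * f m else 0 := by
  classical
  have h1 : Uop d Q a (Uop d Q b f) lam =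
      ∑ k ∈ tbelow lam, ∑ m ∈ tbelow lam, if tdeg d k + a = tdeg d lam ∧ tdeg d m + b = tdeg d k then
        Ng d Q lam k * Ng d Q k m * f m else 0 := by
    change ∑ k ∈ (tbelow lam).filter (fun k => tdeg d k + a = tdeg d lam), Ng d Q lam k *
      (∑ m ∈ (tbelow k).filter (fun m => tdeg d m + b = tdeg d k), Ng d Q k m * f m) = _
    rw [Finset.sum_filter]
    refine Finset.sum_congr rfl fun k hk => ?_
    by_cases hka : tdeg d k + a = tdeg d lam
    · rw [if_pos hka]
      have h2 : ∑ m ∈ (tbelow k).filter (fun m => tdeg d m + b = tdeg d k), Ng d Q k m * f m =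
          ∑ m ∈ (tbelow lam).filter (fun m => tdeg d m + b = tdeg d k), Ng d Q k m * f m := by
        refine Finset.sum_subset ?_ ?_
        · intro m hm
          rw [Finset.mem_filter, mem_tbelow] at hm ⊢
          exact ⟨fun i => (hm.1 i).trans (mem_tbelow.1 hk i), hm.2⟩
        · intro m hm hm'
          rw [Finset.mem_filter] at hm hm'
          rw [Ng_eq_zero d Q hN (fun h => hm' ⟨mem_tbelow.2 h, hm.2⟩), zero_mul]
      rw [h2, Finset.sum_filter, Finset.mul_sum]
      refine Finset.sum_congr rfl fun m _ => ?_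
      by_cases hm : tdeg d m + b = tdeg d k
      · rw [if_pos hm, if_pos ⟨hka, hm⟩, mul_assoc]
      · rw [if_neg hm, if_neg (fun h => hm h.2), mul_zero]
    · rw [if_neg hka]
      symm
      refine Finset.sum_eq_zero fun m _ => ?_
      rw [if_neg (fun h => hka h.1)]
  rw [h1, Finset.sum_comm]
  refine Finset.sum_congr rfl fun m _ => ?_
  by_cases h : tdeg d m + b + a = tdeg d lam
  · rw [if_pos h, coeff_gp, Finset.sum_mul]
    refine Finset.sum_congr rfl fun k _ => ?_
    by_cases hk : tdeg d k = tdeg d m + b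
    · rw [if_pos ⟨by omega, by omega⟩, if_pos hk]
    · rw [if_neg (fun h' => hk h'.2.symm), if_neg hk, zero_mul]
  · rw [if_neg h]
    refine Finset.sum_eq_zero fun k _ => ?_
    rw [if_neg (fun h' => h (by omega))]

/-- (GI2) -/
theorem Uop_comm (hN : ∀ l k : Col, ¬ k ≤ l → Np l k = 0)
    (hI2 : ∀ (l n : Col) (a b : ℕ), n.size + a + b = l.size →
      ∑ k ∈ (Col.below l).filter (fun k => k.size = n.size + a), Np l k * Np k n =
        ∑ k ∈ (Col.below l).filter (fun k => k.size = n.size + b), Np l k * Np k n)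
    (hd : ∀ i, 0 < d i) (a b : ℕ) (f : Ty I → ℂ) :
    Uop d Q a (Uop d Q b f) = Uop d Q b (Uop d Q a f) := by
  funext lam
  rw [Uop_Uop d Q hN, Uop_Uop d Q hN]
  refine Finset.sum_congr rfl fun m hm => ?_
  by_cases h : tdeg d m + b + a = tdeg d lam
  · rw [if_pos h, if_pos (by omega), GI2 d Q hN hI2 hd (mem_tbelow.1 hm) (a := b) (b := a) h]
  · rw [if_neg h, if_neg (by omega)]

end Cfsg.Agent.H315.GU
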