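import Cfsg.Agent.H315.GU.Glob
import Cfsg.Agent.H521.GU.HomId

/-!
# HUB S4537, A5: the statements without the hypotheses of A1 (helper315)

`Ng_eq_zero'`, `Ag_ne_zero'`, `GI1'` as in the plan; `Uop_comm'` needs `I2` (task A3) only.
-/

set_option autoImplicit false

open Polynomial

namespace Cfsg.Agent.H315.GU

open Cfsg.Agent.H615.GU

variable {I : Type*} (d : I → ℕ) (Q : ℤ)

theorem Ng_eq_zero' {lam k : Ty I} (h : ¬ ∀ i, k i ≤ lam i) : Ng d Q lam k = 0 :=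
  Ng_eq_zero d Q (fun _ _ h => H521.GU.Np_eq_zero h) h

theorem Ag_ne_zero' (hd : ∀ i, 0 < d i) (hQ : 2 ≤ |Q|) (lam : Ty I) : Ag d Q lam ≠ 0 :=
  Ag_ne_zero d Q (fun _ h0 ht l => H521.GU.ev_ap_ne_zero h0 ht l) hd hQ lam

/-- (GI1) -/
theorem GI1' (lam mu : Ty I) :
    ∑ k ∈ tbelow lam, Ng d Q lam k * Ng d Q mu k * Ag d Q k = (Q : ℂ) ^ tip d lam mu :=
  GI1 d Q H521.GU.I1 lam mu

/-- (GI2) -/
theorem Uop_comm' (hI2 : ∀ (l n : Col) (a b : ℕ), n.size + a + b = l.size →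
      ∑ k ∈ (Col.below l).filter (fun k => k.size = n.size + a), Np l k * Np k n =
        ∑ k ∈ (Col.below l).filter (fun k => k.size = n.size + b), Np l k * Np k n)
    (hd : ∀ i, 0 < d i) (a b : ℕ) (f : Ty I → ℂ) :
    Uop d Q a (Uop d Q b f) = Uop d Q b (Uop d Q a f) :=
  Uop_comm d Q (fun _ _ h => H521.GU.Np_eq_zero h) hI2 hd a b f

end Cfsg.Agent.H315.GU
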